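import Groth.Agent.FibDimLib.ClosureDim
import Groth.Prelude.Def_CurvBase
import Mathlib

/-! # Dimensions of varieties -/

set_option autoImplicit false
universe u
open CategoryTheory CategoryTheory.Limits AlgebraicGeometry TopologicalSpace

namespace VarDimLib

theorem closureDim_eq_trdeg (k : Type u) [Field k] (X : Scheme.{u}) [X.Over (Spec (CommRingCat.of k))]
    [LocallyOfFiniteType (X ↘ (Spec (CommRingCat.of k)))] (x : X) :
    ∃ s : ℕ, topologicalKrullDim (closure ({x} : Set X)) = s ∧
      (letI := Curv2.resAlgebra k X x; Algebra.trdeg k (X.residueField x) = s) := by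
  let F : Over (Spec (CommRingCat.of k)) := Over.mk (X ↘ (Spec (CommRingCat.of k)))
  have hF : LocallyOfFiniteType F.hom := ‹LocallyOfFiniteType (X ↘ (Spec (CommRingCat.of k)))›
  obtain ⟨s, hs, hs'⟩ := @WeilLib.pdim_eq_trdeg k _ F hF x
  change topologicalKrullDim (closure ({x} : Set X)) = _ at hs
  have he : (WeilLib.kappaMap F x).hom = Curv2.resMap k X x := rfl
  rw [he] at hs'
  exact ⟨s, hs, hs'⟩

theorem dim_eq_closure_generic (X : Scheme.{u}) [IrreducibleSpace X] :
    topologicalKrullDim X = topologicalKrullDim (closure ({genericPoint X} : Set X)) := by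
  rw [(genericPoint_spec X).def]
  exact ((Homeomorph.Set.univ X).symm.isHomeomorph.topologicalKrullDim_eq _)

theorem dim_open_eq {k : Type u} [Field k] {X : Scheme.{u}} (q : X ⟶ Spec (CommRingCat.of k))
    [LocallyOfFiniteType q] [IrreducibleSpace X] (U : X.Opens) (hU : (U : Set X).Nonempty) :
    topologicalKrullDim U = topologicalKrullDim X := by
  have hη : genericPoint X ∈ U := ((genericPoint_spec X).mem_open_set_iff U.2).2 (by simpa using hU)
  rw [dim_eq_closure_generic X]
  have h := FibDimLib.topologicalKrullDim_closure_of_isOpenEmbedding q (A := ↥(U : Set X)) (e := Subtype.val)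
    U.2.isOpenEmbedding_subtypeVal ⟨genericPoint X, hη⟩
  rw [← h]
  have : closure ({⟨genericPoint X, hη⟩} : Set ↥(U : Set X)) = Set.univ := by
    rw [Topology.IsInducing.subtypeVal.closure_eq_preimage_closure_image, Set.image_singleton]
    rw [(genericPoint_spec X).def, Set.preimage_univ]
  rw [this]
  exact ((Homeomorph.Set.univ ↥(U : Set X)).symm.isHomeomorph.topologicalKrullDim_eq _)

theorem height_map_eq_one {R' : Type u} [CommRing R'] {P Q : PrimeSpectrum R'} (hle : P ≤ Q) (hPQ : P ≠ Q)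
    (hbtw : ∀ R : PrimeSpectrum R', P ≤ R → R ≤ Q → R = P ∨ R = Q) :
    ∃ _ : (Q.asIdeal.map (Ideal.Quotient.mk P.asIdeal)).IsPrime,
      (Q.asIdeal.map (Ideal.Quotient.mk P.asIdeal)).height = 1 := by
  haveI hq : (Q.asIdeal.map (Ideal.Quotient.mk P.asIdeal)).IsPrime :=
    Ideal.map_isPrime_of_surjective Ideal.Quotient.mk_surjective (by rw [Ideal.mk_ker]; exact hle)
  have hcm : (Q.asIdeal.map (Ideal.Quotient.mk P.asIdeal)).comap (Ideal.Quotient.mk P.asIdeal) = Q.asIdeal := by
    rw [Ideal.comap_map_of_surjective' _ Ideal.Quotient.mk_surjective, Ideal.mk_ker, sup_eq_left]; exact hle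
  have hh : (Q.asIdeal.map (Ideal.Quotient.mk P.asIdeal)).height = 1 := by
    let Qb : PrimeSpectrum (R' ⧸ P.asIdeal) := ⟨_, hq⟩
    show Qb.asIdeal.height = 1
    rw [PrimeSpectrum.height_eq_orderHeight]
    refine le_antisymm ?_ ?_
    · rw [← Nat.cast_one (R := ℕ∞)]
      refine Order.height_le_coe_iff.2 fun R hR => ?_
      have h0 : R.asIdeal.comap (Ideal.Quotient.mk P.asIdeal) = P.asIdeal := by
        have hlt : R.asIdeal < Q.asIdeal.map (Ideal.Quotient.mk P.asIdeal) := hR
        rcases hbtw ⟨R.asIdeal.comap (Ideal.Quotient.mk P.asIdeal), Ideal.IsPrime.comap _⟩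
            (show P.asIdeal ≤ R.asIdeal.comap _ from fun a ha => by
              rw [Ideal.mem_comap, Ideal.Quotient.eq_zero_iff_mem.2 ha]; exact zero_mem _)
            (show R.asIdeal.comap _ ≤ Q.asIdeal from hcm ▸ Ideal.comap_mono hlt.le) with h | h
        · exact congrArg PrimeSpectrum.asIdeal h
        · refine absurd ?_ hlt.ne
          exact Ideal.comap_injective_of_surjective _ Ideal.Quotient.mk_surjective
            ((congrArg PrimeSpectrum.asIdeal h).trans hcm.symm)
      have hRbot : R.asIdeal = ⊥ := Ideal.comap_injective_of_surjective _ Ideal.Quotient.mk_surjective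
        (by rw [h0, ← RingHom.ker_eq_comap_bot, Ideal.mk_ker])
      have : Order.height R = 0 := Order.height_eq_zero.2 fun S _ => by
        show R.asIdeal ≤ S.asIdeal
        rw [hRbot]; exact bot_le
      rw [this]; exact_mod_cast zero_lt_one
    · refine Order.one_le_iff_pos.2 (Order.height_pos.2 fun hmin => ?_)
      have hbot : Q.asIdeal.map (Ideal.Quotient.mk P.asIdeal) = ⊥ := le_bot_iff.1
        (hmin (b := ⟨⊥, Ideal.isPrime_bot⟩) (show (⊥ : Ideal _) ≤ Q.asIdeal.map (Ideal.Quotient.mk P.asIdeal) from bot_le))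
      refine hPQ (PrimeSpectrum.ext ?_)
      rw [← hcm, hbot, ← RingHom.ker_eq_comap_bot, Ideal.mk_ker]
  exact ⟨hq, hh⟩

theorem closureDim_covBy {k : Type u} [Field k] {X : Scheme.{u}} (q : X ⟶ Spec (CommRingCat.of k))
    [LocallyOfFiniteType q] {x x' : X} (hne : x ≠ x') (hsp : x ⤳ x')
    (himm : ∀ y : X, x ⤳ y → y ⤳ x' → y = x ∨ y = x') :
    topologicalKrullDim (closure ({x} : Set X)) = topologicalKrullDim (closure ({x'} : Set X)) + 1 := by
  obtain ⟨_, ⟨U, hU, rfl⟩, hx'U, -⟩ := X.isBasis_affineOpens.exists_subset_of_mem_open (Set.mem_univ x') isOpen_univ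
  have hxU : x ∈ U := hsp.mem_open U.isOpen hx'U
  letI : Algebra k Γ(X, U) := ((Scheme.ΓSpecIso (CommRingCat.of k)).inv ≫ q.appLE ⊤ U le_top).hom.toAlgebra
  haveI : Algebra.FiniteType k Γ(X, U) := by
    have h1 := LocallyOfFiniteType.finiteType_appLE q (isAffineOpen_top _) hU (le_top : U ≤ q ⁻¹ᵁ ⊤)
    exact (RingHom.FiniteType.comp h1 (RingHom.FiniteType.of_surjective _
      (ConcreteCategory.bijective_of_isIso (Scheme.ΓSpecIso (CommRingCat.of k)).inv).2))
  rw [FibDimLib.topologicalKrullDim_closure_eq_affine q hU hxU, FibDimLib.topologicalKrullDim_closure_eq_affine q hU hx'U]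
  let P := hU.primeIdealOf ⟨x, hxU⟩
  let Q := hU.primeIdealOf ⟨x', hx'U⟩
  have hle : P ≤ Q := (UOpenLib.primeIdealOf_le_iff hU hxU hx'U).mpr hsp
  have hPQ : P ≠ Q := fun e => hne (by
    have := congrArg hU.fromSpec.base e
    rwa [hU.fromSpec_primeIdealOf, hU.fromSpec_primeIdealOf] at this)
  have hbtw : ∀ R : PrimeSpectrum Γ(X, U), P ≤ R → R ≤ Q → R = P ∨ R = Q := fun R h1 h2 => by
    have hR : hU.fromSpec.base R ∈ U := by
      have : hU.fromSpec.base R ∈ Set.range hU.fromSpec.base := ⟨R, rfl⟩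
      rwa [hU.range_fromSpec] at this
    have hRR : hU.primeIdealOf ⟨hU.fromSpec.base R, hR⟩ = R :=
      hU.fromSpec.isEmbedding.injective (hU.fromSpec_primeIdealOf _)
    rcases himm (hU.fromSpec.base R) ((UOpenLib.primeIdealOf_le_iff hU hxU hR).mp (by rw [hRR]; exact h1))
        ((UOpenLib.primeIdealOf_le_iff hU hR hx'U).mp (by rw [hRR]; exact h2)) with h | h
    · left
      rw [← hRR]; congr 1; exact Subtype.ext h
    · right
      rw [← hRR]; congr 1; exact Subtype.ext h
  obtain ⟨hq, hh⟩ := height_map_eq_one hle hPQ hbtw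
  have h := FibDimLib.ringKrullDim_quotient_add_height_affine k (Γ(X, U) ⧸ P.asIdeal) (Q.asIdeal.map (Ideal.Quotient.mk P.asIdeal))
  rw [CatLib.ringKrullDim_quotient_quotient_map hle, hh] at h
  exact h.symm

theorem dim_le_of_dominant {k : Type u} [Field k] {X Y : Scheme.{u}}
    (p : X ⟶ Spec (CommRingCat.of k)) (q : Y ⟶ Spec (CommRingCat.of k))
    [LocallyOfFiniteType p] [LocallyOfFiniteType q] [IrreducibleSpace ↥X] (f : Y ⟶ X) (hf : f ≫ p = q)
    (hη : genericPoint ↥X ∈ Set.range f.base) : topologicalKrullDim ↥X ≤ topologicalKrullDim ↥Y := by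
  subst hf
  haveI : LocallyOfFiniteType f := locallyOfFiniteType_of_comp f p
  obtain ⟨y, hy⟩ := hη
  refine le_trans ?_ (topologicalKrullDim_subspace_le Y (closure ({y} : Set Y)))
  rw [FibDimLib.topologicalKrullDim_closure_eq_add p f y, hy, dim_eq_closure_generic X]
  obtain ⟨n, hn⟩ := UOpenLib.exists_fibreClosureDim_eq_nat f y
  rw [hn]
  exact le_add_of_nonneg_right (by exact_mod_cast Nat.zero_le n)

end VarDimLib
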